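set_option autoImplicit false
namespace Cfsg.Agent.Lib.Helper6.TCD.Y422a
noncomputable def P0 (i : Nat) : Nat := Nat.land (Nat.shiftRight 0x86f0ae1ac348670ca18c2385f08a16c2c86d0660bc2884f09a12c108610ba10c2083f07a0ebda7b106a153d585305a0ac14827049e6c2481f03a06c0c788f0e04bc1780f0a02c04806eca00c0078eeddd53a97f6fe9fcb92726e35c838f7e6e69c8b98718e09c0b76706df9bab7073ef99ce3736d6d6daeb596ccdf1abb636b1071aa41b7aed420c34f7a6f49e8bd0690d1e08bcc796d0de4b417fef19e2c0b81501a0440777eef99d3bc672ee99c3377fced9dabb4767009d8bb075eca193bac67aff5fe3a8642c81d2b1f63ce89d0b187cec29833e55fefc97d3f05f8e59792f17eefe1f8bf57e8bb1fb3ef5e0bbd7738870eb9171afe7d6fb9f6b005f2fa96f3de5fab8970ae05b2fb1f4ad77c8b616abe8624b4167b147c6da9b4ad2596f7d863057b8c1d6430b594b25f0ac47c4b09f03db7bab055f3d957ad495d3d67a8d39a6b4c568acd593cf79cd19a2aad794d09e434067eaa9d5b3c676ef5ddbb9770cd99aaa3544cc950aa065ecb996b2c530a5d94bae75ac9992a91520a3dd3ba6748e8d8eb1c512a2143ba062ea0d8ab6c4f8dbd88a7a4ee9d93ab656c0e7938a7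06c4e75b22744e69a534380736e11bdb974c6e65bfa674cc9957aaf44b6e55ca38b714e252c38e4b496574ae8516a2928b8670ade9bcb7849cdf52824f5b6929bbb726e8925b8a46488da12136e6dab3966a3f6ced7daf36147c8ed1d35c586d69ab23846cd55a9abc460d455cab845a8b115b4b694d2558ab055e891a22ac444cf954a2154e88152aa4668ccd98b3053ea790ca1842ea694cb2b654a594aa0f41c83592323644a3903a065ceb998db1a632a1900a0062ca08fe1fa3ee7d8fab134f6c40f79ee61ec3986b046067a584b083da7b0f5a6c4d6785813015f0bdd7b1de5f6780efa604be825041d85e6bad752ed3ae9592aa0340474572add5b8b7ce824c3fab696b1cb48eb50e3ad338ab4520a40598b1ce19c158cb151cac037aafd1a9ba3728c8dbabb45e6d55bab656a8a914a2835e6b8d6aae446aad542a643e878d41a74368694ea9c536858d09a0426848ce99c528a4d4920c32c6552f25d51aa31029904a894d42a843fe63125a81312a00c21834fe9f93e9f43e67c8f897a4f29e137a6e4da5dd391792f0798f299832e5c5352624c2990b81dc3b6648c8a5c4ae5a8ea9d431c6352924d2ca738e698a490728c415c48a719219c447a5611e1c037e5551b9bc2a68d1199504626d9171b43666c8a514944e899129ac3566a8d4a1d438698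a11413466890aa1433e4f108a103364e09b9e43c682d05194264768eca0425c74ce91fe256730fd9c930e618911f93f0608c09802fe5f89d1392367c0f41e73d4468ba9742684ccf11dd2285b89816c25e758b492d2ce4b0e79642544a4b09282be578829c82b6568811c22ae400df154376548a89b829e538a694c1ee6c4d814828e518a28f4286694d21401de4f89e99e1d65f4be19a3324d8731732e464c7116d2d663cb416631658cb116024e498750e91aa6149092023e478740e72f65d8679181c84587196f226384701101be378868dd216370848db1b4304ae90417e564809561fe3f87e8fc1f62f05d8b62963d87a9441e62c8788f027e2b8768ec2764949211d2384d45391722a4c48911121e4388610a21041c6c8d81562a8918d41a62a4688a8232338530a5196290648a318e288628a1140238830c02062f85e8fa1f22e85c88b1143e05a8b41663c8408b015e3b8568ac1ae358690d01ca334660ca190318620c313e1f44e87c1362683d87a12e1e44a8781261dc488760ea3084688c1702dc4486710e19842862106208588800fe1f84f09c1322604b094124240478740b816c3885a0de164368580d615c2b0681102183284c096210308600be1782e8730e41c03706c0d41a42a8430a6108288410800fc268640c61281c04808e118228440a81482804f09c0f81803c05e0b81c84906e0a41a8340660c81883d0760e8168220420a81b02803c098128240460b01581803e09c0a81c0360680c82002e0580e8140260480881001e0380680c0160280480800e0180280400600401000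 (Nat.mul 11 (Nat.land i 2047))) 2047
end Cfsg.Agent.Lib.Helper6.TCD.Y422a
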