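set_option autoImplicit false
namespace Cfsg.Agent.Lib.Helper6.TCD.Y422a
noncomputable def P1 (i : Nat) : Nat := Nat.land (Nat.shiftRight 0x86f0da1ac348670ca124308470ba16c2c8350620ec2884f09a08c3185f03e10c2081502214bd97cd0adeb42a82f05a0ac1479ef3a12c10845039e540c81707de441e792ef1ddbb9770ee9d73ad7feff9da3af746e81cbbf87eefd9d83b1712e21c3bf07dee9dd33ec7d6e85d43e873d06db53e46b8db9ad36b6b6f79b4bdc7b6d560e3d86a3065a83d47a6d2da5349827049e6bcc68903603c0967ecf9e2b3b786f09e0bc077eef9dec0680b00a02403664cc5983fd654ec9fa3f57f900600322756ea9d4be97dcfb595b2c7f6c65f53fa620f9dceb9c736e69ccb2d7f2bd9cab945eabd1c8b9071ee3993325648c8df9bf27e2e19c2ae95d0b9d733806fedf9beb1d638c6d8d32e6eeb6dbab7462ec59b8b155a2f8989b0d7c0f95eeacc624b4167ace59ad8988b606bed7962be37bef85622c36aed59ed2be6a6aedebbd5572add5b2b57a4f45e834868ed19573cb686aada0b4078ef1953aa6788a919cb3866ecd99ab34666edddb3b5536de1cc3a474aecd4932864ee35c638b714eb145a8a63ec79be37b6f4de5d13186e6dc9b827d6dad9db0b9f61ec39b627c4f69e984b0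8534a6582b04606c0980a6c4d6bf97eafc5f6a594aa94526e59c9b925e69812fa5e4babb976a8e51aa31c2383704e0572a564aa95129ae05bea1942a846ecb692624b504a0523a805a690db7b666cad91b1b68484905202c858eb19aeb596b08e91cac057ed511aa316a4ae9a7a2e69cd35a62b4566ac958ab044ad1556aac684aa954aa867acf10e33a43686950aa053ea794ea9c65ec1d8329852ebe97caf85eeca504a0851ebb175aea642c8101a0250eb796eadc3fab5d6b2d44fe9f98a30c616c293ca783e47c4fa9f43e69c909a1242284136b005fe9a8f31e53c878d32a6441882d052f25e2bc177a5c3b6768eca05408b9171ae25c2948ea1d33a47fcff2d95b0734e61fb5aa725229d55a4b2d652c938a7111ea3c39cb09609bf46e7295ea344666e15e23045eae116a2c4568a914a2844e89957a24446888d4a2043e8790eaa5546a88d19a242e8590aa144e29c137a6e33065d06a634c498548a903246452c257512a20c718d49c9354198a490620fc9f830e6193aa744e69dd3b1f02fe5f8be97c3007a8cd99a3329a5342674cc788ba1732e4650c99dc4b69692c96c2d663d222514a093cb39663168ed252492c48d9231c82d25a11fa3e2b4708b21634706f8b096037657caf23236e6d8da9b43666c8d89b029a530d69ac3566a91094334e698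d29a44328609f13d33e6789d1393d27a0f3a0f41c4d0999de3ba81d0312f3ac8050012c39e7f0949fa3ee7d8c292724c494921eb3de7b8f69ec2f64788e91c26c4d4ba9e13c077c8b1152625b8b69d83ae444e39c63a2740871c138072cde9bc3746e4ae91021e70cac90d2185588590a2124208395029e538d79ae2963f07d8fa1f2518a29443503c47814027e684d00ec276674ce0e81ce5dcbb19632a38cb78ed3203809698c1bc4a8c492830860cc11812463606b8d623e5e8bc9781a23407291822e5c4b80cc226448b515c2b6594ac1572aa550a99522a2418648c820631c630c518830c7e94a292520a38f81722e05b8b31e63c8a114115e3b89813c1583a87493826e2a08c8b02642945692e1be4ac6e8dc1b63686c9222424804e89c1a63488d91a1303386691419632882904204404800ff1fc30849892122240478bc1762e87b8f61ea21c430b41e8208588e41de1fc708eb1562a8418e60f42007107e146288508a013e2786a8d40e42684c8cf12e2584a8941823005f8be17a1ac350691162284488816c2d4318841522c82f8a615c2903087c0c029c2f05d0ee1d83a8740e626c388700de1b83686c11c2344604e09a1983286410a1203e87b1021e43c0470b6118228440ae1582a8540a61482885009e1a033839096128248620b81682c8580680cc1903107e0f81e83c0760e82602a06e0d81a8430841042002504808c1682c0560e00f82804e0981802f05c0680c8200520580e81c0360881081202e078080140260600881501e0380680c0160280480800e0180280400400c00800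 (Nat.mul 11 (Nat.land i 2047))) 2047
end Cfsg.Agent.Lib.Helper6.TCD.Y422a
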