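set_option autoImplicit false
namespace Cfsg.Agent.Lib.Helper6.TCD.Y422a
noncomputable def P2 (i : Nat) : Nat := Nat.land (Nat.shiftRight 0x86f0aa1ac3486709618c2485f0ba16c1d8330da14c2882704a1943082108a06c2081907a1641c7d0f5e15c1882ef49e8bd084f09a08c23798f2e10c1f817029df3bd80f019dfc04807009d83b17feff9d3ba6742ea1d9b93724fd9c5b8a758e6dca382702e61c63836ecde5b941b7cef99ceb637c6f89f0b7770cd61ba3736f8f69b8b70834d45eabd469905a0ac1479ef39e6c0f81cf29a03c878ef199dbc4786f099d3c080b02604336776cd59a33376eed9dab2d7f2eca0040164ac9191bf3756c85903fa7faff18e31b634cb9fdb1673ec39f2b067e4bfdccbee5eeca5cabf17f0fdd78af05dee39c6bed7eafd17538870ef7d803017d8fc1f7ae35c4b8585bdb5f0be5f52dc7c0fad6c3dd7b8fa5ecbd86deb4db6b6c6d6da9b4b685cab9187b087c8b256fade5bac1daeac66b6b696cbde5aeb595fad55a8d49eb2ba69ed39a6bd3696d29a4b4868ed19a2b44686d09a0bc9552aa19eb3c78af059caa3544ef1dd3b9770a794ea9c65ee89da295528a4dcb291520a7dd7bae75aa31d53a9512a218eba5748e8d4228362ee818ab144fec4988a7e6cae793c2776fa9d98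4b646bce713826f4dcc09c23857349a133a665f6be9bd37b72e9857aaf45e6bc9c8b9071e96576aec5d6e2574ae85ceb99b3b66700dfdbf24f6c2d81afb785b6d69acb756aed59aa3536dcb4922a4459eb3966a524a2941b124e49ad711e23b58692924a486aa8d9232bc46ed4117ab84688cd5aab4566ac958ab055e89d56aac44c8859fb3e43c87552aa4670cdd0ca1864ccc998b30428a694ca0f41c87d9632b6548299432740c8590ab22516a298fb1e400a1942b19630a0940a80626c40fc1f74f67d93cb0d618c28f71ed3d89c938b05608c0cf3a6c4d69a934afe5fabf0efa644c69897b1dc4be9792ea5c4b6969772584ae7552aa544a6b3165aca5c0b21639ce496b0960ac0394af568ad039071ce32403a2740e7ac5588704e01cb576af8de2b756c8c8df1bd5726ecdd1b94568a914a2855caacd81af4466b9551a852ca9d531a443686950aa0340a3946a9b35484908a10530a5cca9a634aa4904a08342a3ccf99e40680900a873fe7f8fe9fc3f67e8fca7d4f89e8c198230261cc31f03de9d53a2732f07a8f49e84da5d4f29e43c6788f09e04ca778eea602dc5b4ec9d83ae7592b1692d07491fa3e47a930b216347091cb0243484904ae15b2ca7091d2392ae8c51823545c8b5161562aa550a99522a26c8d8a25448888a494828e84cd4a20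28283105a1c34668903a1740a810ce99c28a510cc99832e5090694027e4c0c893c2764b4c698c3164a8c49283e47c4c29843ea7d0f992023e498929242f65e8bc9eb2ee5d8f311822e5c8b89702de76ced1132245a8ea1d322043ce19cd398430b09c92be578ae9c5388410ac95837e6e0db9b636a6d0d99001fe3f8a694c296528d69ac3563d4cd99a286658d39943263b49e99031e3a8748f426e3cc790e42663bc771921c23acc70df2566286e9881b25f8be97c246488909802fe34c690d62364688c9742e6338669142d85ac651672cc320659622164288490820e4188295a2064088095029e5385e8ba1f63e87c8f81ee3d8a313826c4d4580f02644c49f0ad25c4e89c8a91542c85893414c2b8978a425828c948dc1b63689389f13c4706a8d423c4744d09919e4588a89621a4444b90e12a250628c4186308608c017e2f87e8bc1763f04488816e2d85a8b4106398728f11003887607e0fa39c7407b10238c3c8e01bc1e0508a01b035c3a07313634468070192330638c60de1b83686c11e2384688c0ce2285c8b80ca19042884166180538af0bc2b05585c150168528a20b21603a89d13815038898126248488900a214027868116130438860921883088208c1fc2e87c0861e83b8760821002a8720a61483586a0d20e8268660701283183508e17c228440b61082b85605c0f81e83c0761381c84b06e0d82403404c0c81883005e0fc1682c0560a81482804e0cc0e01b0460881082002e0780e8250480500981803e0440a81a0320380b00c01e048068100160280480800e0180280300800800800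 (Nat.mul 11 (Nat.land i 2047))) 2047
end Cfsg.Agent.Lib.Helper6.TCD.Y422a
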