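set_option autoImplicit false
namespace Cfsg.Agent.Lib.Helper6.TCD.Y422a
noncomputable def P3 (i : Nat) : Nat := Nat.land (Nat.shiftRight 0x86f0da1ac2784d0ca12c3085f0ba10c2c8570720dc158690ce18c1184708a16c0c83f079f342a853069ed3d97b105a1441482704a123cd81f03a06c2077b029e3408770ee5db3bc792eb9dd3b5754ea5e3bb77f6fe9fcb957eee41c6bf47e6fc9f8b9971cfb9f6b7770cdcdbe3e87cf075f2b7e6dcd71f0b666b2dd5eeb5f6ad0660c4176a4d55aa3537a6d39e8b4d79ef3a0834668af2a01b3e7fb025e2b3a786ce1e0b3777eefa05c04663006034077f90160033f678ca1d8b266650099832f63effdff31d74ee99d2b3d746e898bba073ee7984b9c604e69f82fa72ee59fc2f3726bc9c8bf671efbdfaaec716badc4b8870efad72b845c8e09c0b0f5f6f917ebe95bcde96eb077d8b65ef2ed7d4b59b8b70626f8d68b6c5a0da9b4b68618f8165b64594b81b0b047b8b1daebe2588d69efac16aef6deb3d57a8f5d5dabe57af49e82b856ed295b34868ef31e5aae686d0955340768f21d23b3548f1150bc2780cd94fb34666ebdddbad758a694b2a7656a9952bb2540ec14732451aa6d90b20756c79d4286636a158cb18742a058ab146de9f188b107009e586b674e8c29cea726f09c5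82b60606e6d352774d2bf9beafc6fee6131a6f4c4bd97aa60728e492daf04b4bb9ba38c71495d74a565ceb99c2b834a2b89283624c8dedbca4d498971bb2494b0dc96aad45a6b49b6b6b484b3920acc6cad8d1f2c86bcb1962b5b472b09ac2c046ed41a7abc6a28c11ab4c696d251722d5668b158ab055ed11122ac556d050faa8658ca994b3b546a899cb2766a8594ea15644cb909a98440cb50621141687148a0742ec9591a04516a2944a0150ec718d1fe3f88158b2804fe7e53eb123e89e9871f06007bd3ab0b4e6c21831e95f07a1369f23ccc057f9e13da78132adf5f2bdceeaf43b6978ed2da5e2bbcebad75d4ba0ea2543a678971ae13a07796e2db3987616c1d648e91922a44486b3d669c447eb251e9c24768e961a3857e6f55ca344668c918aba36cad55a2b236a6d1149b344e6c512aad35888910a97552698d2a924368690c9a151ea794e19e53266d4a19a33a658d3a9552664d049925206414128c4066394418c328a10c528331e7e93f1853ee610faa7b3e69b0bfa784ec5e9339793d67a93826e2ec9acba17d2e6949342662e0939309dc4be974b5a4a4b2920eaa554a6598b8a4f2de738b624b2d4584e495d38e718e2a403868f0ac1c037e5651b1543766e8dc9b836e8bd15a2a4505391314b35e528d6a233566a8d494241a8790e93f3464f90c1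3c33e851079384248409a93a268838991ff41482097a063f6808962002627f49718830e49cfc1f6244608909803e2478f211d2f67b8f611a2ee79cba9e53c6454e89df39e5b8b69cd3b272cb496822c7488a10d2c6444e510a2be578e41052b6568df1c120240c811bc2a6548a895029e6c8a68fc3606b87b9481ec518a29441e26a077940348688761a02766607419c1cc4d8cc9971c6654c59303226249698d1c44a8700dc30c360928d724660cc08d41b25f8be0d02365e08c91822e59cb9165196448b10c921e330b20c618e5808490820e418ae0c02ac554ab8bf17c3f87e94c1723e85c0f829251c5a8f41683c8a18af2823b87693d1d63a8559391504dc728e42664ac709291be294511281b63688f9262482706a92013e2786891c19e25c6690e2262508809221643048890186308609042003fc460bc1162e87d8f910c2d87a8f31662c8420b01e02b8568ac1d21f03e8e714e2986f0780ee3743b0a01a63484e8d61361c43989819c1b84a8ca126320628c40d2238468bd1761984488810e2dc428b10c2208310800fe174548aa0b81e82c8a41462842b0551321c84d0520a62583686c0d61a8478680ce228250640c6204418470901143f07b0b61083c8580ae1d43a03d0de1c01e03b09e1382684c0961941b05f0c00cc2f0440601681784007e0f82a0510a00ac1c82906e1241302508c090188430820841682c07407c1c02804e0d41a032032088170200540780e81c0360681181802e0580a80f0260480681002802c0880901c0280600800e0180200500600800800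 (Nat.mul 11 (Nat.land i 2047))) 2047
end Cfsg.Agent.Lib.Helper6.TCD.Y422a
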