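set_option autoImplicit false
namespace Cfsg.Agent.Lib.Helper6.TCD.Y422a
noncomputable def P5 (i : Nat) : Nat := Nat.land (Nat.shiftRight 0x86f0da1ac288670ca18c3085f0ba16c2c8570aa14c3482b09a12c2484708a10c2083f07a0ec1c83706a0cc1882f03a13bd37a304a08c1081f05a06c0c81702a04c0880eeedde3b6806eddd7bac756ec9d23ae744e95cb394722e39c6389762e11c9b7f720de9c5b8070ade1bdbe86d8f99b23626dadbdf0b656cedf5eeb5e6c0f69ecbd87aef59eabd4828f2e09b4c694f39e6bcc7a4f29e4bc867af19e2bc4786ce5e0bc066cef9dec0580ccc998bb880501197b2c652ff9f9b25802ff1914007fec7d9431c636c91fd3fd632fed9732b628c3584305602bf97daf95ecfe579bf87e2bc5fbbef5dcfd9763f57daba9fa2e95eab95f5bf25c6b89783ec7e0b81ef2de7d2fb96e3ea61ec017eb7460ebe1b8b707c4b45f1be759eb39b4b687beb2df03e5592f91b0bdb58ef71aeb13624d698630b6aec11aab546a6d49a8b5069ed155c3d0688f3d5aab368ed19a734b686abda0b4054ecf9e3aa5676ce9e12a166eefd4f29d666ee9dca9b76ae854abb4740a49d9ba951ea39d83a6518eb544a91754a1d433a874ea11d1a98534a518ab9f6b8d6d88a7d6ee9e1cf3596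b09d53939d6e69c1ce3564da9a9cdb764d0e69baa6573298dcc3724c2e5dc3a5f72a96dc93814b2e3d76b8d4aee29c42554a8979c3251706e0927b7e5bedf126b794d8b693ba675ae9bd6aad448ab49b72426d6da9202cc6cc8f9b1ac86be9fd62a7c4f6b093a2c057eaf95eabc576ae95cb4d55c8b9a4aad6908ad14ab0684add5a2ac44aaa90f2a867e8719e2a4432a899c21742ccd59a214660c5d0931841a83196b16414ca99020664ec990232340682590a0063cc74ff31a41ea0908a8058c7e1882c45867d4f830e5b27b9852c13d6c24f4b065ac79d81adb3cac08f0aff5b077d7e2645f47757b9db5e8b98eca5c5e475d77a585d6751742e73a4949721d05c29396e9f23c8928f6a4848e919699c7486b40e22cd47eb291ea3c3ee8e8fa23846e8d91aa273768c918a3045ead9121b556488d589b24686c155a2d4546b5109a734caa4d22a6346869519a0540a7ccf29c336a65409995066554ba96326a4d45191320a4102a8d516634c62883fea14cc19d3f67e8c2a7e47660d3d239300930bf2792f49d9249784e67a9389764dc5d135a4b2e4789349704cc7793116e4c05ad2e9d84b4758b4a562cc94ce8a5039e61ce697d396728e49c848856ce2a41386708e098237e6f8de9bc4666bca99b836e6d9161ac29c8a0a5a26374525111b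428c514d494144087c9fa1d4364f49e21833e854fe1374264d5081fd2664c9071944164bd0420731e4b1012013164e8c498839c498fc9223ec700901f323c7c4e611c2f67bc8d1ec2ee7a08c1e622a78cb89e02de7708916c3b45a8ea90f2ce74cb296424a588b096029a424ae95c38c568ac9582ae558aa9543725207f15029e6ccaf8fb3623dcd71521ea6acd50f21e03bcd414034a3b0d11a1276628738e63384d8cd0e332e658988e13244b86f98e2563a8949281b0618b18d61f06106a1811a65fc6817c2365e48c97519a458b99142265b4889102d04388690c216428af0fa18641882904206408809001fe5447e8b92984205b9232942d4a38b21e6510579432843b85693e1d64a8550a82724e0728a6268388980e025a3786e8dc1782804f9271384905b12123e2646891d19e3388b8cc196328648c818e318628c420e308608c017e2f85e8db1142247e0861f23547b0b41043d0588801e22b8768ac0f83a43d8e814e390528a4146288508da1b21cc438d710a2686909812e2584a8941262484889011e2384688c0cc2ec5d06413a2e04d8840c02cc408b00fe1f82e0ab1521e83c8780ee1d83a86513c18c388700de1b83686c0d61a83486809822c3a0880e4188238830be1782e87d0961682c8580ae158250490a61482885009e1381c8670b61542a0480c2118228440701082084007e0dc1b03c0760e82684307c0f41a82a0660c81882905e0b8140270560d01802d0580980f8240460781081d04a088100170360580c8150380680c0110260400a01201a0300780e0120280580600e0200280400600800800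 (Nat.mul 11 (Nat.land i 2047))) 2047
end Cfsg.Agent.Lib.Helper6.TCD.Y422a
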