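set_option autoImplicit false
namespace Cfsg.Agent.Lib.Helper6.TCD.Y422a
noncomputable def P6 (i : Nat) : Nat := Nat.land (Nat.shiftRight 0x85b0da1ac3486709a18c3085f0ba1bc2c8570aa14c288290ca0942484708a10c2081300e0ebe17bb06a0cc1882f059e9c277a1095e741081f03a06bbe816f220fbb880eedddd3b583ceedd63af7fef09d1bad768ecdd4391728fd9c4b8c760e0dc937e71ede5c539b734e61cbb746d6da5b1b9d73ef8a0e39e7bef7a0db9c7b6d75ad3577aef59eabd482af49a6413693045a3bcc796f29e4c0a78ef19e2bc4682ff99bbc066b03199b328050159840880ccbe023fb7f4ce592bf3800c89fe401756c7993bf9634c8d94b197facb196b2a7c6f81f23dc7d8fad84bea7d2c71cabf75e2fc5fc2ee7dee39c6bf45d4fb5faae85e8e197f2e37e4b8577b015c0fc1beb7c5ecb71f72f961cbfd7e3e860cbdd6d2d76dedb98a2cf7ceb35f33686ced9986ac97cac21b0b606bec15ed3106b6f65853587b0c0d62ac2580af1a8b5069ed09a6bd1696ad5e7ab279aac157b44686d39e1b4067ecf99eb3c676a89d92a0782a79dfa9c77aef14dbb976ca55d0ba2524e81d2a8f752c99d8a8c74ceb94429050eea98eb96508e9dd2297532a4d4136d4fac4988b5c4f0dddb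2a75616d65ccb624e0dcdaf26d6ac9e5c02686ece1532b754e49c5bc2616e4ded2fb875e6bc9c9a59702e4176aec5d6e2d2ab884a697572ae470893dc137f5beb796eb7a4d6dc53b2666e09b9252485a6b4968ad06d8901b52cc596b29b22c858e9f9aaa7a586d5139b534788e91c352462ae95cab8556ad9a52b4456d211434668a89556aac56eaa954aa854ea9952a1a430ce90bb3853ecd90a3346628498ba0d63084d9720a62ccad03320650a3946b244048210032163ea1942b1b41cc55081fb3f0b19899f54f6b118130f3dcb65861eb582bed7d3073ceb59821e55b67c0f7b003beb617e9ea3d27a17c2605ea7657325c4b6969782584ae959749d25ce94928a505c4939269f13c6b54f62d439a72d22a4448690920ace47e8f91eabf3ecaf8f9abd37c704dfa264668c95d9b745e8b91122c5668a8d92b13608d1571ad4468b510a203548790ea1c344a90d02a35428590aa9d52ca68cca8132aa0d4c19b334a50c8a8a40ea4502a0431aa2d00a893fe7f8cb99c500624fca7f3068ed3e1804725f92626a4d29dcbc2494e899131a624de5fd361724965ecbd1794ce5dcbb1dc3b67692f1d83ae758ea9d43a6950e89d039e6192397c48c590b11c838e718e29c43865651b18146a8dcaa9573766b8dc9b846053cda9ab3668a4d8a27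2926e91214636887cd49a834e514a21a427a86cd0a1933e6789b9fc41882d089333fa4e10793626a6490499031e6390198c3164e4fd12924c738c29843ee480e01f43cc7c88e1cc3c4784f01ed3bc7748f91e23a7908d91a2325b8b696c2d65a8b49682ce598b29ca2487248590c2985788315c2b6568e1102378558de8ff2a651ca895036c5387d95f296528d78f52a46b0d31a52863d0a08f31e44f8d193c27639cc519633a650c98e83303987293025e4b89692c2563a4c40dd24e61c6b163246488909822ea5d0b997d2e25c0b78d31a4344680cf2264488891021e438639602c2310848f920e574609041845605f1002a83f87e8fc29a2dc840f81ee3d8a41422804fc598f01642c4768ec1d62a8951342744c8988a915029c708e01be378940a11763686c8d81ae4946a8d423045c8b1152282684c89812a328498c821a2406290a18640c8288d11c4045e88a1b62e85c8b81f42d85a8b41e23bc77083104204568ac1563a8720e31c41ec3d0a41461d86e0a013e2784e89c136338668cc0de1c06586c1921a8358c611e2fc600681162f04488810e218428841602bc570600be1f83e87c14c2942d0580ae2883a8740e61c82989612e140288941222482708c0ce198328640c6188308800fe1182205c0b61e4208780ee0fc1f0540e20ec3686e0741a42684c0960dc2484808e1781905d0860bc2c82e0ac1541603c0a413c1c83809409c1a834048114118220841001683d0560a80f02806c06c0d0330620c01082002c0a40e81404c0940c81802207c0a81c0260480b81001e0380680c0100280300b00a0240380400600800800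 (Nat.mul 11 (Nat.land i 2047))) 2047
end Cfsg.Agent.Lib.Helper6.TCD.Y422a
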