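set_option autoImplicit false
namespace Cfsg.Agent.Lib.Helper6.TCD.Y422a
noncomputable def P7 (i : Nat) : Nat := Nat.land (Nat.shiftRight 0x86f0da1ac3485b0ca18c3085f0ba19c2c8570aa14c2884f08612c2484708a1342083f07a0ec1c83706a0cc1882ef4e0ac0e82703608c1081f0520940c817029e4c0879101a02c0478cf1dda3b3764eadd73a474ae89d8b9b734e65cc39772ce4dc23906fee2dbd385700dedbc3e87cef99f2b7d6dedb5b43676cad89b0b606bcf69ecbd87aef59eabd482cd31e8bcb79ef29e6bcc7a0f3a04c0780500de2bc4786f09e0b4177ed01debbc776cfddcb3e67aed99e401800ffdfcb2d658ff5953297fcca18fb2e648c6dfdbfc656fe98e31973ee79ceb9c7f0fddfb3f57e8fcd813017e4bfd7f3f05f8bed7d2f97dcbdd7b2f55d2c3df63f1600bc1713eb7debf5f23077d4fb57c3e95cab8d702df5bcb71b8b707c6c4df136c624da988be17c0c31efb64616f79eebdc608f6d692d159eb3165ac9590b1daab546a6d49a8b5069eae1a2bd256ad29a2348686d19a6b4968ed09e03be774ee1dbbb5676ce99cb38554cd954b34550a9d98aa654aea1d83af746eb5d63aa52ea594aba7526a4948a89752a614d3a174ca51d028750ca118ab146dcdadb4b1070cc3986b666c6c2984b086f8c1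982b5f606e55ca383724e45bf38f71ce35c6379714e25c426b4d49a5343824cc995322634c4985c3a6c4bc951bba776ece0533b756e8dcd37b724aa94928a4f49c9356aad44fed75ae27c6b6b393db5a6b29d1ac3576ac91521a424808fd1f23d57eaf95ea32576ae95cb4e45cab9a5a2b566ab558aac55ead9592b0556cdd9ab33664cc197aa454688550a2043e8794ea1d438c754cb1e64ec9992b1a646c8990a0e41a83105a0a41280d9020f630c5d08b164007fcff2805a69f93ead059a9e93ca785c89d93aaca4e69c938a705ba9b936ae85e8bcd792f15c2bbd772ed5d8bad751e63cab9cf19e23c2780ef9de3ba7c96dae63c8b696c9ed5b0b5d6b1d43a4744e81cf48e919631f758ab10fa2c3584b05601c838e714e21c346e8d91a9bb44eaf0dc23045eadcdaa245686c914a2346689912a2c450889512a053ea794e29b4366a50c9a834e698d29a442684942a10510a4147a8e51aa314599732c654ca193514660cea83504a04c698c3167e8fc9f84887d8faa413e6958f89f03de7b9281ec3d67a8f49e83ce9812fa534ba9712da5a4b29612b9752e85ccb91712e05bcc3a4c2fa92d252494905a4b39662ca728e4a3c4766091d239470574ae15b2b4558de9bc46854cd7a312a06d91694e3588a8d89b03726b8d69b33566a90d21842e8590aa1434650ca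11412804fd0099c336668cca0241081d032054084d0999322624e8fe9fc3f64b0959883aa618c2984306718c09802fe5f8e997c2f65e8bc9782ee5d8ee1db3b4764ec1d73ac4608b91622a450e712539a730e591021e438b0960212534e11c13806fc819052086f8801543743f8a41b71fa6d0af14c296528a495128e518a2944344684d019f33c3c4780ef1dc6389c93826e4d89a992322640c78e41c63887518a31237c6f12824e498b41242464889092023e4788e91c2364688c96e2da5b0b596a19c334661642c6588648c818a428af8c31f4308ac1572b22fc6015517a548a78fc1f641c7c8f81ee3d87a8f41e63c89f13d2784ec580af15c4b4748e81ce3987293025e4b8530a52544a4518dc1402f06c8d81ae3586a8d41a6348688d019e44c8911112e2588690c1222488588f210418471012042307f8da1762e85c8b816e2d85a8b41662c8588ed1d83ac4007f1562a8548a814e384700791ba1dc3a8db13e2784e89c1362684c8981963283686e0d631863869188304340be1162284488810e21842884106208408ad1581783e87c0f61e852059144158508740e61c8388700a22504a84f1261384808d0ce198328640c6188308600be1f82285c0b61683c04007e1d82a8540781483783a0d81a82684c0961282484808e1182e831086108170580ae0b41e8530561401c8380500d81a83406608c220300421041f0200760a81483703a098128190640601782c03e0541381c0260481202202e0400f00e036068060160160500481101e01c068080140180280400600800800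 (Nat.mul 11 (Nat.land i 2047))) 2047
end Cfsg.Agent.Lib.Helper6.TCD.Y422a
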