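set_option autoImplicit false
namespace Cfsg.Agent.Lib.Helper6.TCD.Y422a
noncomputable def P8 (i : Nat) : Nat := Nat.land (Nat.shiftRight 0x86f0b21ac348670ca18c308450ba16c368570760c42884f09a12c2481f0be10c0b81102a153e67b306a0cc297a905a0ac1482704a08bcc84703a06bbd841079dc41f78ced9dcbbb790ed5d6bae7feff9d9bac740e8dd3b9071ee55c538b74ce09c0b9b728e5dc4b7e6eadc9bcb716d5071cf3777c6f89b4b636b0e19ad3566bef6a0db537aef59a7c177a6f49e8bd079ef39a3410796f299f40367901de2bc4786f09e0bc0668cce06331808cc202c0965f01a0132a7faec99232364500200bfc756ea9d4b1a7f2fcd8cb297f4cad8b3fb73ef95873037e0bf1812f77dcc6dfb3ef5e0bbd773f87eebcd75aea7e8fd5f6ae75ccf797eae25c2fc9f8ae0602fb172add5b8bd9f4af87c8b61f5ada5acfa9f42d46dedb9b6ace59af9df0b11616b2964b0d7c0c3d662c77b6c11aeb5c586f7560bdf580f71aaabd7b0d49a8ab97aad39a6b4c696d29a4ab1560f35a2b44558d09a0aa854cf2552bc7676ce99cb3866ea754e3bf77ca6dde3ba76ea5149a92744ed1d232864ea35463b1760ebd90b2063ec7942a8472cea1d2b18502e85403146269edb43106c4e75b22746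ce9cd3ca784de9b936b5e738e65bfa674cc995c2b9a4d498930b78730de92f25d71c9692cb93724e452e25771ae312a253710e1dbea5049ee11c1b804a4935be37b496dd124b76490dcd233705a6b4968a41480db1b5b6147cd99b2a3d6c0b1962a396b68e1acb5757e8d5aa2bc5768bda82b856ead95aa2a4528a1a434755eab911b43556aa90eb40438cfd9eaa4546a8950aa042a8519b3356648450829852e82d0532e65acb148a9051e81193325516a2944a8850e7f98eb1c5067ed8bb154fe9f93e9f46247cd84b083da7b0f5b0c6147c0f41e760ec19829e43c6becf01df600bfd7f1e23babe97c9da3b2bd57a2ed3aebc9789d65d874ce92e95d0b7ce82e45c673d6f1cc5b672d6cad7392b55229c6486711682cf386b2d6423c3806fd622c246e6f15f2344668c9189b65748b8da1b3364ad159ab244e899129ac55a6ad10a2034a69154aa74368690ca1842e6794fa9e3346654d29941e8390699352ca5504a0840e818c7a8e40680900a00316a18fe9fc5047e8fc9f8304604c027c4f45f4be2722f25e13ba764ea5ecbb2714e05ccb926c4d6990b82694d05bd3196d2d69812f96a4b6960b41664ac954b2a5149c58cb124c494581239c82b6910ad24247e708aba3b4746f8aa236376548a89b829e8c0a722d4588acd89b029051ca322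4444510d49a834e4fd0fa1e346688d09a0276858ce99c26a84d0919832e658ca931418648c899040a638c698c3fe628c498824a490c29212407dcfb1f523a470f91f13d4468f79ee2327a48b9153cc7948a1e13bc448ee1113b6760879d521c750e890c39c734851ca21041cae90438e714ac9013825587f9bd1fc6e8dc8fd36e6d47d0f92963d87a9af35c6b4791aa286508a08ee34c4f89e93c33e4e89c93826e394cd9342664c8ca13025e4b89692c2564a8949281ae358c3986246350c21831a4340bf97e19e5e8bb8cd2ea330ba1711945b8b60c82d259c631641885846195f2bc4186015c2062f8ac0bd2aa54ca80b816e534a60f816a528a48f4162514788f01de500768ec1d63a8748e81ce3989b0e41c6388708e01be3786e8dc1b63684f09c24e4984d92213247c4c11e2362588c11612844c491101204344790b21230846905118408800bc176220430fc1f62147b8841662c8798b015e2b8568ac1562a8548a814e298528a4146288508a00e6364390d81aa1c0698d10dc338360cb0d4324348c718a1a0608bf116228320ba0c62e45b0b4106208408800fe1f83e87c0f61e83c8780ee1d83a85413e2742909a0a025c2789509c24c4888e0ce1982488910e188308600be1782e85c0b61682c8580ae1581e8740761c41d06f0da1ac2684c0960d83284808e118228440861082084007e0b02a82b0a61441c83804e1281a8340660c81883005e0b81003e0780a81481d06e098128240460881082d03e0781401c0360680c81802e0580a8140260480881001e0380680c0160280480800e0180280400600800001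 (Nat.mul 11 (Nat.land i 2047))) 2047
end Cfsg.Agent.Lib.Helper6.TCD.Y422a
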