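set_option autoImplicit false
namespace Cfsg.Agent.Lib.Helper6.TCD.Y422a
noncomputable def Q46 (i : Nat) : Nat := Nat.land (Nat.shiftRight 0x86ef161ac348670ca18c3000400616c36856cee0c42884f09a12c240070be10c176e05de152a47b306a0cbc410905a0ac1482704a0880484703a06bd8168c556b9363fe849831e93bcc5df52f971ce658e32e5ecfd1f6b1f63ce558d31b7dcc8190b9b728cad8cb2741a82991b71437071cf3777c6f890d218282e19ad13f42af699d0b17aef583140b7a6f49e8bd079ef3802c10796f292728250c962164293d4c25f42ed738d5c79a70532dcccd9945349c531b7b718bedbd3796f0e854ab987ecfbdf838a74ae89c4ba872ce5d30bb173ea8d870f2752a618129474ce2dd5baa512a2143bf87eebcd42a84746e91d3a8a51669d4ba91520fc9f8a8f602fb172a8d518e8149293540655f5ada326eb5e08e56dedb9b69a3344f9df09a9350684d030d7c0c3d6619e348695aeb5c1e0a8877bdf1dca71aa88177ad49a88487aad39a6b4c696d29a480600ef35a2b44014d09322c85bc8158eaec83b06d3939d6e8c15ee145280c1d09a0c5f4bdd7c3e97e6c95fab7f6fcb756e3fb658cb5c0b82720e3d75aea7f4ca5fca653bb0008cb1462650db431042ece10c9426ce2c9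3ca784164d4a2214668ff99420e41ec61c2b9a4d48458b3227f8c9101a027fe80500393724e452e1fe67aff504a08710e1d1020740ce11c1b804a48110e32a266cdc99376262cc053c085a6b496893e27adb1b5a21278d99b293b43ab19628af6b62b9acb3357e17daa2bc5760d5a82b856ead95a80f010025a434755eab806b43556b7db019f6f8a39c6be67caf75843e46bed78d51a652c988bb2fc5fa9bdb93ac75eec1712e15c093553bb45ccb9d782ef5dc95d52bb33be5bddac1e4fe9f93e8f1624209e12a132c3987a30c6147c0cc99a536ee54e997330ec8cea83600bfd7f1e2502eddd718e31abd57a3c0318bc97898b78e648c8ae95d0aa8c82e45c663d530e35b63896cbb80f4b55228ed4863b1682cf1d6b2d5423c1001fd622c246e1195f2344668c9188265748b80a00c016ad159ab244e8991281155a071b0b7d608f6d0b3266d4da5b23636c4b1d0f21f3ce7a197c044cc99dbaad66650052a2534a093ce7b3f4bc9752d2593accf0b917080633cfc9f816018059a7c4f44d05433926e4e13ba764ea5ed084066624e8fea6c4d6d04fe2694d07ee0112d2589812f92b4b701c9812f4ac9549725167c29852a4c494169239c815a9105624247e7082f23b4746f819a36376068081b80368c00722d4588acd89b002c0940ba244449b588b0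b7bcd594f29f59cb35652c947aaa4f011a4dcef1db1e33c87b56c24877474ce91d0792768ec9d778c4548a0981c81ecc28471067dcfb1f51ce3a0f91f1786670f79ee500eec7518a3cc794c49e179037cee0de3b6760709d51c0750e887939c734211ca044054ae87e38e714ac845382558121bd0246e8dc81336e6d40f0302960d00f9af35c6b581b364f69d1ac2c066a9052023e6805cc681782f2b520297d496926049682cc594b696b2d4334660700b82a4c3986246184c21831544e4bf97e3f45ea0512a2ea4a4ba1711465b8b60a42d259c2c96405e5840c15f2bc4182e95c2060c8ac0192aa54ca8043052534a60f8054528a49eb6a6efcfa2c3582ef8e31c438645c4c91c23a7b20f92539872c8790e2244444b0520580743e07d24e498269221d247cc411e2363748c1160ee44c3c1100824341090b212308221050464088002707a16c1c0fc1f60e47bbd43009ce061824728e0ad95a0e63486b17c48c58cb10c81941b81d820156364338d81aa4a0698d11443382b8cb0b0324170c718a0c4608bf0a80d8258ba0982e45b4202407cd5e9c037e4104e09e248724860921281401588b13e2746e09a0ec25c1f89508024c4888e0e41243308910ed3c6a18146a55c600d71105806306a0d80e85d8741421c42b06f0da1ac4d8630c822832ab92426f08088d1704284804e09e36c2a8750a614442886178129178f62a82f8340f91881a45003e0782d45b8da06e6d8a38ff1184204782d1ea3e8141ab29e5485e8c328c520839b41fa3f8d6151454539119b3364ab114229560ac5a33cc81f0880042e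 (Nat.mul 11 (Nat.land i 2047))) 2047
end Cfsg.Agent.Lib.Helper6.TCD.Y422a
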