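set_option autoImplicit false
namespace Cfsg.Agent.Lib.Helper6.TCD.Y422a
noncomputable def WIL0 (i : Nat) : Nat := Nat.land (Nat.shiftRight 0x17170b4b8585c2b2e15170a4b8505c272e1317094b8485c232e1117084b8405c1f2e0f17074b8385c1b2e0d17064b8305c172e0b17054b8285c132e0917044b8205c0f2e0717034b8185c0b2e0517024b8105c072e0317014b8085c032e0117004b8005c7f2d3f169f4b4f85a7b2d3d169e4b4f05a772d3b169d4b4e85a732d39169c4b4e05a6f2d37169b4b4d85a6b2d35169a4b4d05a672d3316994b4c85a632d3116984b4c05a5f2d2f16974b4b85a5b2d2d16964b4b05a572d2b16954b4a85a532d2916944b4a05a4f2d2716934b4985a4b2d2516924b4905a472d2316914b4885a432d2116904b4805a3f2d1f168f4b4785a3b2d1d168e4b4705a372d1b168d4b4685a332d19168c4b4605a2f2d17168b4b4585a2b2d15168a4b4505a272d1316894b4485a232d1116884b4405a1f2d0f16874b4385a1b2d0d16864b4305a172d0b16854b4285a132d0916844b4205a0f2d0716834b4185a0b2d0516824b4105a072d0316814b4085a032d0116804b4005a012c0016004ac0056012a0015004a40052012800140049c004e0126001300494004a012400120048c004601220011004840042012000100047c003e011e000f00474003a011c000e0046c0036011a000d0046400320118000c0045c002e0116000b00454002a0114000a0044c002601120009004440022011000080043c001e010e000700434001a010c00060042c0016010a00050042400120008000380018000a000400018000800020000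 (Nat.mul 17 (Nat.land i 255))) 131071
noncomputable def WIL1 (i : Nat) : Nat := Nat.land (Nat.shiftRight 0x13f2e9f174f4ba785d3b2e9d174e4ba705d372e9b174d4ba685d332e99174c4ba605d2f2e97174b4ba585d2b2e95174a4ba505d272e9317494ba485d232e9117484ba405d1f2e8f17474ba385d1b2e8d17464ba305d172e8b17454ba285d132e8917444ba205d0f2e8717434ba185d0b2e8517424ba105d072e8317414ba085d032e8117404ba005c3f2e1f170f4b8785c3b2e1d170e4b8705c372e1b170d4b8685c332e19170c4b8605c2f2e (Nat.mul 17 (Nat.land i 255))) 131071
noncomputable def WI (i : Nat) : Nat := Bool.rec (WIL0 i) (WIL1 i) (Nat.ble 256 i)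
end Cfsg.Agent.Lib.Helper6.TCD.Y422a
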