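import Cfsg.Agent.Lib.Helper6.TC11
import Cfsg.Agent.Lib.Helper6.TCD.Y422a.Par
set_option autoImplicit false
set_option maxRecDepth 1000000
set_option Elab.async false
open Cfsg.Agent.Lib.Helper6.TC
namespace Cfsg.Agent.Lib.Helper6.TCD.Y422a
theorem chkT : chkTree px GT 9 1080 = true := by decide +kernel
theorem chkH0 : Nat.beq (H0 0) 0 = true := by decide +kernel
theorem chkH1 : Nat.beq (H1 0) 0 = true := by decide +kernel
theorem chkH2 : Nat.beq (H2 0) 0 = true := by decide +kernel
theorem chkH3 : Nat.beq (H3 0) 0 = true := by decide +kernel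
theorem chkH4 : Nat.beq (H4 0) 0 = true := by decide +kernel
theorem chkH5 : Nat.beq (H5 0) 0 = true := by decide +kernel
theorem chkH6 : Nat.beq (H6 0) 0 = true := by decide +kernel
theorem chkH7 : Nat.beq (H7 0) 0 = true := by decide +kernel
theorem chkRk : chkRank isRoot rnk mv 1080 = true := by decide +kernel
theorem chkCnt0 : cntLab lab 0 1080 = 1 := by decide +kernel
theorem chkCnt1 : cntLab lab 1 1080 = 728 := by decide +kernel
theorem chkCnt2 : cntLab lab 2 1080 = 351 := by decide +kernel
end Cfsg.Agent.Lib.Helper6.TCD.Y422a
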