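set_option autoImplicit false
namespace Cfsg.Agent.Lib.Helper6.TCD.Y422a
noncomputable def P4 (i : Nat) : Nat := Nat.land (Nat.shiftRight 0x86f0da1443486709e18c3085f0ba16c2c8570aa14c3586505209c2484708a0742080b0120ebe77cb06a0cc1882f05a0ac2684af41e7c1081f085e5bbf816eeddd3b978f01a0fc1e76af21d9bb4780ff9d6ba375eeb1d839a736fd9cbb98750e49c1b8f6fce29bcb94722e31c4b9d838daa0db746baf89b5b5a7bef79b1b577b6e7dcf39c7aef59eabd47a6f49e8c12822d25a43cc81ad119fc0280ecf1e2bc4672f099c3ff818cd59a3bc8150260433076eeda01c00802d0596bf97f6ca9febfa756c9d8f3f3646c699632b7f8ca592b227b4f65f43d87eefe1ccbf47eacb9cabec5fefc9f5afc7e0bb5c6bea5eefb9f4af45d0e1980b007e2bbd70afe5fafbd6fb7c5f2be1f6af65b4bc5773e45aeba9873065a4db9b6b6c7c2f9966b12598d99b2b647bad8985ac86bed79f1ac56b6f81613587b8b018830a606d09a8b5069eaf1a6b4c696d29e73cd564ac5a2bca55ad49d92a9792a999ebc6676a8de1bc1540cd9df3bd538cc998bb865ee59d8ba5748eb9d1297754c99d0a9374ee8148288530ea58ea95528e994928f504a314cb14626da13db5561edc586b0c6c2d518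4b0860edc182b046a6c09c2b84726e01bfb904c8be9bdb7a716de135b884b8bc9bb266704dd5c72585d6dc9363874ba94d292e44d099dc0a656fa9396ea614beddd252596e69213b26e5a6dbd21ad059eb39b4b6747eb2964b6047a8f1ae23a586d651c3564fc9e939b4e556ae95ca32462ad95aab4566d1da322855eab9a1a23576881a021d54ecf952a1b67486150b3753ea794eb33536a698ab1f650a598e31b648c650732163081546b1641080907b2041a7fd42a0a40cc5cfda104feafd3ea7c622af93ca784eeb553aa7457a7a938a704deb5136ae95ea78934ae35c4bc1702fb3bc9896e2605b678d73af33b09696c2ec3ac958f29e45ccb94e8a503beb78e79cd3b2b64e5ad63e27b0e42445a271520a4059670d63ac6382b10dfac144c7d8f99be466ae15ba2245e6e0dba2c4568a914ab044e8dd12a245588c0d42aa43e8795421c5486890caa242e67d0aa1442684908a80512a4543994416a10cba8b40ea0d4718f330a290099550c62cc8989502670d89f83ee8d8fa9f446a7c92397b3de7b8f6a463d69c8bb9e83ce7992aa544bc9a8b89e049e98cb79dc2d876925a5b2d495cea9673a65c92896549a59126162492618be2452b87192115a47c7091d9574728d0d71812ac554dca2e45a6aca814f3666c8fc9b035e6f4d69ac36c6a8a1a21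34e500d29a4346868d09a042c4ecce9fa26c668cca034126590020c262648fe92e4086389992b3fc4a4fe13930e7289194a306608de1802fe5f8be9c93e046cbc9783d2464ba9162e6748f09143ba44cb69db22275c881683a8438e81ce218730a6124216578ae9c7208710ac9583806ecdd1472003fca89b53683f4a69611f0610a49482a851879944352508a09a61dc4f89e8eb33c4e8c413826e66c7293431a388c99301c0640968de318374c50e91f84989296030a3547b12023e3448e91c2f433cbb0ce22e5d0661702dc328b5969190598869632be3e4628c420e4188295b206408809532a42f4a71271f63e88514b16c4847a8f428a2c4788f015c4fc768ac2783a8940e81ce29c9a8e414a4c85212f1464b0950bb1423685d09d1703589109b1343488f0982344604b1151964486490f18e3188490811e308608c017e2f87f0bc1b8364438d716e3dc428b4166204790b00fe3bc3f0ec1162a85487a1cc1e4718e11be2886d8750e82206c0721a834c380d012e3344a894126248488901862384688c1562283289e17218c5a88410617c5905e15e2b43385b0b42a0530780ee1d85009f0a82702a8990de1b83686c0d61a8348680fa12c4484910c188268461042002e8430f81ec2c8580ae1583887307c0f42885009e138308380cc12832048068180228440b80c02084007e14c2902d0580e81504c06e0d81a84704a0c8188420440b81e03b0400e41482804e0701981a0460bc0c02b03e0780e8260280900902102e0580a81b01c0640881001e04c0500c016034038080120140300400600800800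 (Nat.mul 11 (Nat.land i 2047))) 2047
end Cfsg.Agent.Lib.Helper6.TCD.Y422a
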